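import Groth.Agent.QCoh.FlatExchange
import Groth.Agent.CohPullLib.PtExchange
import Groth.Agent.AVDualCx.Minimal
import Groth.Agent.QCoh.LocalExchange
import Mathlib.Algebra.Homology.Embedding.CochainComplex
import Mathlib.RingTheory.Flat.Localization

/-!
# Truncating a finite free complex to its amplitude

Vanishing of `M ↦ H^i(K ⊗ M)` in a degree makes the neighbouring cokernels flat; hence the canonical
truncations of a finite projective complex are again finite projective, with the same tensor functors.
-/

set_option autoImplicit false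
set_option linter.style.haveILetI false
set_option linter.unusedSectionVars false
set_option backward.isDefEq.respectTransparency false
set_option backward.isDefEq.respectTransparency.types false
set_option maxHeartbeats 1000000

universe u

open CategoryTheory CategoryTheory.Limits MonoidalCategory
open scoped TensorProduct

attribute [local instance] HasDerivedCategory.standard

noncomputable section

namespace Groth.Agent.AmpTrunc

open Groth.Agent Groth.Agent.FlatCxLib

variable {A : Type u} [CommRing A] (K : CochainComplex (ModuleCat.{u} A) ℤ)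

/-- Vanishing in degree `i` makes the cokernel of `d^i` flat. -/
theorem flat_coker_out (hfl : ∀ i, Module.Flat A (K.X i)) (i j : ℤ) (hij : i + 1 = j)
    (h : ∀ M, IsZero (CohIII.T K i M)) : Module.Flat A (K.X j ⧸ LinearMap.range (K.d i j).hom) := by
  obtain ⟨q, rfl⟩ : ∃ q, i = -q := ⟨-i, (neg_neg i).symm⟩
  obtain rfl : j = -(q - 1) := by lia
  obtain ⟨e⟩ := QCoh.nonempty_tfun_revCx K q
  have hP : ∀ i, Module.Flat A ((QCoh.revCx K).X i) := fun i => hfl (-i)
  exact (preservesEpi_iff (P := QCoh.revCx K) hP (show q - 1 + 1 = q by lia)).1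
    (QCoh.isExactT_of_isZero fun M => IsZero.of_iso (h M) (e.app M)).2

/-- Vanishing in degree `i` makes the cokernel of `d^{i-1}` flat. -/
theorem flat_coker_in (hfl : ∀ i, Module.Flat A (K.X i)) (i j : ℤ) (hij : j + 1 = i)
    (h : ∀ M, IsZero (CohIII.T K i M)) : Module.Flat A (K.X i ⧸ LinearMap.range (K.d j i).hom) := by
  obtain ⟨q, rfl⟩ : ∃ q, i = -q := ⟨-i, (neg_neg i).symm⟩
  obtain rfl : j = -(q + 1) := by lia
  obtain ⟨e⟩ := QCoh.nonempty_tfun_revCx K q
  have hP : ∀ i, Module.Flat A ((QCoh.revCx K).X i) := fun i => hfl (-i)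
  exact (preservesMono_iff (P := QCoh.revCx K) hP (show q + 1 = q + 1 from rfl)).1
    (QCoh.isExactT_of_isZero fun M => IsZero.of_iso (h M) (e.app M)).1

/-- Vanishing at all residue fields in degree `i` gives vanishing for all modules. -/
theorem isZero_of_residue [IsNoetherianRing A] (hfin : ∀ i, Module.Finite A (K.X i))
    (hfree : ∀ i, Module.Free A (K.X i)) (i : ℤ)
    (h : ∀ x : PrimeSpectrum A, Subsingleton (CohIII.T K i (ModuleCat.of A x.asIdeal.ResidueField))) :
    ∀ M, IsZero (CohIII.T K i M) := by
  obtain ⟨q, rfl⟩ : ∃ q, i = -q := ⟨-i, (neg_neg i).symm⟩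
  let P := QCoh.revCx K
  obtain ⟨e⟩ := QCoh.nonempty_tfun_revCx K q
  have hPfin : ∀ i, Module.Finite A (P.X i) := fun i => hfin (-i)
  have hPfree : ∀ i, Module.Free A (P.X i) := fun i => hfree (-i)
  have hP : ∀ i, Module.Flat A (P.X i) := fun i => @Module.Flat.of_free _ _ _ _ _ (hPfree i)
  have hs : ∀ x : PrimeSpectrum A,
      Subsingleton ((CohIII.TFun P q).obj (ModuleCat.of A x.asIdeal.ResidueField)) := fun x => by
    haveI : Subsingleton ((CohIII.TFun K (-q)).obj (ModuleCat.of A x.asIdeal.ResidueField)) := h x
    exact (e.app (ModuleCat.of A x.asIdeal.ResidueField)).toLinearEquiv.toEquiv.subsingleton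
  -- the cokernel is flat
  let C := Coker P q (q - 1)
  haveI : Module.Flat A C := by
    let s : Set A := {a | Module.Free (Localization.Away a) (Localization.Away a ⊗[A] C)}
    have hspan : Ideal.span s = ⊤ := by
      by_contra hne
      obtain ⟨m, hm, hle⟩ := Ideal.exists_le_maximal _ hne
      obtain ⟨a, ha, hfr⟩ := CohPullLib.exists_free_coker_nhd (P := P) hPfin hPfree
        (show q - 1 + 1 = q by lia) ⟨m, hm.isPrime⟩ (fun y => ⟨0, @Subsingleton.elim _ (hs _) _ _⟩)
      exact ha (hle (Ideal.subset_span hfr))
    refine Module.flat_of_localized_span (S := A) (M := C) s hspan fun r => ?_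
    haveI : Module.Free (Localization.Away r.1) (Localization.Away r.1 ⊗[A] C) := r.2
    haveI : Module.Flat A (Localization.Away r.1) := IsLocalization.flat _ (Submonoid.powers r.1)
    haveI : Module.Flat A (Localization.Away r.1 ⊗[A] C) := Module.Flat.trans A (Localization.Away r.1) _
    exact Module.Flat.of_linearEquiv
      ((LocalizedModule.equivTensorProduct (Submonoid.powers r.1) C).restrictScalars A)
  have hepi : (CohIII.TFun P q).PreservesEpimorphisms :=
    (preservesEpi_iff hP (show q - 1 + 1 = q by lia)).2 ‹_›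
  have hbij := CohPullLib.bijective_tM_of_preservesEpi hP hepi
  -- Nakayama
  haveI : Module.Finite A ((CohIII.TFun P q).obj (ModuleCat.of A A)) := by
    haveI := hPfin q
    haveI : IsNoetherian A (P.X q) := isNoetherian_of_isNoetherianRing_of_finite A _
    haveI : Module.Finite A (P.cycles q) :=
      Module.Finite.of_injective (P.iCycles q).hom ((ModuleCat.mono_iff_injective _).1 inferInstance)
    haveI : Module.Finite A (P.homology q) :=
      Module.Finite.of_surjective (P.homologyπ q).hom ((ModuleCat.epi_iff_surjective _).1 inferInstance)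
    exact Module.Finite.equiv (tUnitIso (P := P) q).toLinearEquiv.symm
  have hA : Subsingleton ((CohIII.TFun P q).obj (ModuleCat.of A A)) := by
    rw [← not_nontrivial_iff_subsingleton]
    intro hnt
    obtain ⟨x, hx⟩ := (Module.nonempty_support_iff (R := A)
      (M := (CohIII.TFun P q).obj (ModuleCat.of A A))).2 hnt
    rw [Module.mem_support_iff_nontrivial_residueField_tensorProduct] at hx
    have hsub : Subsingleton ((CohIII.TFun P q).obj (ModuleCat.of A A) ⊗[A] x.asIdeal.ResidueField) :=
      ((Equiv.ofBijective _ (hbij (ModuleCat.of A x.asIdeal.ResidueField))).subsingleton_congr).2 (hs x)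
    exact not_nontrivial_iff_subsingleton.2 ((TensorProduct.comm A _ _).toEquiv.subsingleton_congr.1 hsub) hx
  intro M
  haveI : Subsingleton ((CohIII.TFun P q).obj M) := by
    haveI : Subsingleton ((CohIII.TFun P q).obj (ModuleCat.of A A) ⊗[A] M) := by
      refine ⟨fun a b => ?_⟩
      have hz : ∀ w : (CohIII.TFun P q).obj (ModuleCat.of A A) ⊗[A] M, w = 0 := fun w => by
        induction w using TensorProduct.induction_on with
        | zero => rfl
        | tmul t m => rw [Subsingleton.elim t 0, TensorProduct.zero_tmul]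
        | add a b ha hb => rw [ha, hb, add_zero]
      rw [hz a, hz b]
    exact (Equiv.ofBijective _ (hbij M)).subsingleton_congr.1 inferInstance
  exact IsZero.of_iso (ModuleCat.isZero_of_subsingleton _) (e.app M).symm

/-- Vanishing of the cohomology above `d` gives vanishing for all modules above `d`. -/
theorem isZero_of_high (hfl : ∀ i, Module.Flat A (K.X i)) (c d : ℤ) (hc : ∀ i, c < i → IsZero (K.X i))
    (h : ∀ i, d < i → Subsingleton (CohIII.T K i (ModuleCat.of A A))) :
    ∀ i, d < i → ∀ M, IsZero (CohIII.T K i M) := by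
  suffices ∀ (n : ℕ) (i : ℤ), c < i + n → d < i → ∀ M, IsZero (CohIII.T K i M) from
    fun i hi => this ((c - i).toNat + 1) i (by lia) hi
  intro n
  induction n with
  | zero =>
    intro i hi _ M
    exact (HomologicalComplex.exactAt_iff_isZero_homology _ _).1
      (HomologicalComplex.ExactAt.of_isZero ((tensorRight M).map_isZero (hc i (by lia))))
  | succ n ih =>
    intro i hi hd M
    obtain ⟨q, rfl⟩ : ∃ q, i = -q := ⟨-i, (neg_neg i).symm⟩
    let P := QCoh.revCx K
    have hP : ∀ i, Module.Flat A (P.X i) := fun i => hfl (-i)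
    obtain ⟨e⟩ := QCoh.nonempty_tfun_revCx K q
    obtain ⟨e'⟩ := QCoh.nonempty_tfun_revCx K (q - 1)
    have hepi : (CohIII.TFun P q).PreservesEpimorphisms :=
      (preservesEpi_iff_preservesMono hP (show q - 1 + 1 = q by lia)).2
        (QCoh.isExactT_of_isZero fun M =>
          IsZero.of_iso (ih (-(q - 1)) (by lia) (by lia) M) (e'.app M)).1
    have hbij := CohPullLib.bijective_tM_of_preservesEpi hP hepi M
    haveI : Subsingleton ((CohIII.TFun P q).obj (ModuleCat.of A A)) := by
      haveI : Subsingleton ((CohIII.TFun K (-q)).obj (ModuleCat.of A A)) := h (-q) hd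
      exact (e.app (ModuleCat.of A A)).toLinearEquiv.toEquiv.subsingleton
    haveI : Subsingleton ((CohIII.TFun P q).obj M) := by
      haveI : Subsingleton ((CohIII.TFun P q).obj (ModuleCat.of A A) ⊗[A] M) := by
        refine ⟨fun a b => ?_⟩
        have hz : ∀ w : (CohIII.TFun P q).obj (ModuleCat.of A A) ⊗[A] M, w = 0 := fun w => by
          induction w using TensorProduct.induction_on with
          | zero => rfl
          | tmul t m => rw [Subsingleton.elim t 0, TensorProduct.zero_tmul]
          | add a b ha hb => rw [ha, hb, add_zero]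
        rw [hz a, hz b]
      exact (Equiv.ofBijective _ hbij).subsingleton_congr.1 inferInstance
    exact IsZero.of_iso (ModuleCat.isZero_of_subsingleton _) (e.app M).symm

/-- The homology is `T(A)`. -/
theorem nonempty_tUnit (i : ℤ) : Nonempty (CohIII.T K i (ModuleCat.of A A) ≅ K.homology i) :=
  ⟨(HomologicalComplex.homologyFunctor _ _ i).mapIso
    ((NatIso.mapHomologicalComplex (MonoidalCategory.rightUnitorNatIso (ModuleCat.{u} A)) _).app K ≪≫
      (Functor.mapHomologicalComplexIdIso _ _).app K)⟩

/-- Quasi-isomorphic bounded above complexes of projectives have the same tensor functors. -/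
theorem nonempty_tfun_iso {L : CochainComplex (ModuleCat.{u} A) ℤ} (φ : K ⟶ L) [QuasiIso φ] (b c : ℤ)
    [K.IsStrictlyLE b] [L.IsStrictlyLE c] [∀ i, Projective (K.X i)] [∀ i, Projective (L.X i)] (p : ℤ) :
    Nonempty (CohIII.TFun K p ≅ CohIII.TFun L p) := by
  obtain ⟨h⟩ := AVDualCx.nonempty_homotopyEquiv_of_toD b c (asIso (DerivedCategory.Q.map φ))
  exact ⟨AVDualCx.tfunIsoOfHomotopyEquiv h p⟩

instance tfun_additive_up (p : ℤ) : (CohIII.TFun K p).Additive where
  map_add {M N f g} := by
    refine Eq.trans (congrArg (HomologicalComplex.homologyMap · p) ?_)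
      (HomologicalComplex.homologyMap_add (CohIII.tensorMap K f) (CohIII.tensorMap K g) p)
    ext i : 2
    exact LinearMap.lTensor_add _ _ _

instance tfun_linear_up (p : ℤ) : (CohIII.TFun K p).Linear A where
  map_smul {M N} f a := by
    have e : (HomologicalComplex.shortComplexFunctor _ (ComplexShape.up ℤ) p).map
        (CohIII.tensorMap K (a • f)) =
        a • (HomologicalComplex.shortComplexFunctor _ (ComplexShape.up ℤ) p).map
          (CohIII.tensorMap K f) := by
      ext1 <;> exact ModuleCat.hom_ext (LinearMap.lTensor_smul _ _ _)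
    show HomologicalComplex.homologyMap (CohIII.tensorMap K (a • f)) p =
      a • HomologicalComplex.homologyMap (CohIII.tensorMap K f) p
    unfold HomologicalComplex.homologyMap
    rw [e]
    exact ShortComplex.homologyMap_smul _ _

variable [IsNoetherianRing A]

theorem finite_projective_of_flat {N : Type u} [AddCommGroup N] [Module A N] [Module.Finite A N]
    [Module.Flat A N] : Module.Projective A N :=
  haveI : Module.FinitePresentation A N := Module.finitePresentation_of_finite A N
  Module.Flat.projective_of_finitePresentation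

/-- The cycles in a degree above which the functor vanishes are finite projective. -/
theorem finite_projective_cycles (hfin : ∀ i, Module.Finite A (K.X i))
    (hproj : ∀ i, Module.Projective A (K.X i)) (d : ℤ) (h : ∀ M, IsZero (CohIII.T K (d + 1) M)) :
    Module.Finite A (K.cycles d) ∧ Module.Projective A (K.cycles d) := by
  have hfl : ∀ i, Module.Flat A (K.X i) := fun i => @Module.Flat.of_projective _ _ _ _ _ (hproj i)
  let u := (K.d d (d + 1)).hom
  haveI := hfin d
  haveI := hfin (d + 1)
  haveI := hproj d
  haveI := hfl (d + 1)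
  haveI := flat_coker_in K hfl (d + 1) d rfl h
  haveI : Module.Flat A (LinearMap.range u) :=
    flat_sub_of_flat (f := (LinearMap.range u).subtype) (g := (LinearMap.range u).mkQ)
      Subtype.val_injective (LinearMap.exact_subtype_mkQ _) (Submodule.mkQ_surjective _)
  haveI : Module.Projective A (LinearMap.range u) := finite_projective_of_flat
  obtain ⟨t, ht⟩ := Module.projective_lifting_property u.rangeRestrict LinearMap.id u.surjective_rangeRestrict
  let ρ : K.X d →ₗ[A] LinearMap.ker u := (LinearMap.id - t ∘ₗ u.rangeRestrict).codRestrict _ fun x => by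
    show u (x - t (u.rangeRestrict x)) = 0
    rw [map_sub, show u (t (u.rangeRestrict x)) = u x from congrArg Subtype.val (LinearMap.congr_fun ht _),
      sub_self]
  have hρ : ρ ∘ₗ (LinearMap.ker u).subtype = LinearMap.id := LinearMap.ext fun x => Subtype.ext (by
    show (x : K.X d) - t (u.rangeRestrict x) = x
    rw [show u.rangeRestrict x = 0 from Subtype.ext x.2, map_zero, sub_zero])
  haveI : Module.Projective A (LinearMap.ker u) := Module.Projective.of_split (LinearMap.ker u).subtype ρ hρ
  haveI : Module.Finite A (LinearMap.ker u) :=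
    Module.Finite.of_surjective ρ fun z => ⟨z, LinearMap.congr_fun hρ z⟩
  let e : K.cycles d ≅ ModuleCat.of A (LinearMap.ker u) :=
    K.cyclesIsoSc' (d - 1) d (d + 1) (by simp) (by simp) ≪≫ (K.sc' (d - 1) d (d + 1)).moduleCatCyclesIso
  exact ⟨Module.Finite.equiv e.toLinearEquiv.symm, Module.Projective.of_equiv e.toLinearEquiv.symm⟩

/-- The opcycles in a degree below which the functor vanishes are finite projective. -/
theorem finite_projective_opcycles (hfin : ∀ i, Module.Finite A (K.X i))
    (hproj : ∀ i, Module.Projective A (K.X i)) (d : ℤ) (h : ∀ M, IsZero (CohIII.T K (d - 1) M)) :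
    Module.Finite A (K.opcycles d) ∧ Module.Projective A (K.opcycles d) := by
  have hfl : ∀ i, Module.Flat A (K.X i) := fun i => @Module.Flat.of_projective _ _ _ _ _ (hproj i)
  haveI := hfin d
  haveI := flat_coker_out K hfl (d - 1) d (sub_add_cancel d 1) h
  haveI : Module.Projective A (K.X d ⧸ LinearMap.range (K.d (d - 1) d).hom) := finite_projective_of_flat
  let e : K.opcycles d ≅ ModuleCat.of A (K.X d ⧸ LinearMap.range (K.d (d - 1) d).hom) :=
    K.opcyclesIsoSc' (d - 1) d (d + 1) (by simp) (by simp) ≪≫ (K.sc' (d - 1) d (d + 1)).moduleCatOpcyclesIso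
  exact ⟨Module.Finite.equiv e.toLinearEquiv.symm, Module.Projective.of_equiv e.toLinearEquiv.symm⟩

/-- A bounded above finite projective complex with tensor functors vanishing outside `[a, b]` has a
finite projective model concentrated in these degrees. -/
theorem exists_amplitude (hfin : ∀ i, Module.Finite A (K.X i))
    (hproj : ∀ i, Module.Projective A (K.X i)) (c : ℤ) (hc : ∀ i, c < i → IsZero (K.X i)) (a b : ℤ)
    (hlo : ∀ i, i < a → ∀ M, IsZero (CohIII.T K i M)) (hhi : ∀ i, b < i → ∀ M, IsZero (CohIII.T K i M)) :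
    ∃ L : CochainComplex (ModuleCat.{u} A) ℤ,
      (∀ i, Module.Finite A (L.X i) ∧ Module.Projective A (L.X i)) ∧
      (∀ i, i < a ∨ b < i → IsZero (L.X i)) ∧ ∀ p, Nonempty (CohIII.TFun L p ≅ CohIII.TFun K p) := by
  have hfl : ∀ i, Module.Flat A (K.X i) := fun i => @Module.Flat.of_projective _ _ _ _ _ (hproj i)
  haveI : K.IsStrictlyLE c := (CochainComplex.isStrictlyLE_iff _ _).2 fun i hi => hc i hi
  haveI : ∀ i, Projective (K.X i) := fun i => (IsProjective.iff_projective _).1 (hproj i)
  have hzero : ∀ {N : ModuleCat.{u} A}, IsZero N → Module.Finite A N ∧ Module.Projective A N := fun {N} hN => by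
    haveI := ModuleCat.subsingleton_of_isZero hN
    exact ⟨inferInstance, inferInstance⟩
  -- truncation above
  have hLE : K.IsLE b := (CochainComplex.isLE_iff _ _).2 fun i hi => by
    rw [HomologicalComplex.exactAt_iff_isZero_homology]
    obtain ⟨e⟩ := nonempty_tUnit K i
    exact IsZero.of_iso (hhi i hi _) e.symm
  let K₁ := CochainComplex.truncLE K b
  haveI : QuasiIso (K.ιTruncLE b) := (CochainComplex.quasiIso_ιTruncLE_iff K b).2 hLE
  have hK₁ : ∀ i, Module.Finite A (K₁.X i) ∧ Module.Projective A (K₁.X i) := fun i => by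
    rcases lt_trichotomy i b with hi | rfl | hi
    · have e := (CochainComplex.truncLEXIso K b i hi).symm.toLinearEquiv
      haveI := hfin i
      haveI := hproj i
      exact ⟨Module.Finite.equiv e, Module.Projective.of_equiv e⟩
    · obtain ⟨h1, h2⟩ := finite_projective_cycles K hfin hproj i (hhi (i + 1) (by lia))
      have e := (CochainComplex.truncLEXIsoCycles K i).symm.toLinearEquiv
      exact ⟨Module.Finite.equiv e, Module.Projective.of_equiv e⟩
    · exact hzero (K₁.isZero_of_isStrictlyLE b i hi)
  haveI : ∀ i, Projective (K₁.X i) := fun i => (IsProjective.iff_projective _).1 (hK₁ i).2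
  have hT₁ : ∀ p, Nonempty (CohIII.TFun K₁ p ≅ CohIII.TFun K p) := fun p =>
    nonempty_tfun_iso K₁ (K.ιTruncLE b) b c p
  -- truncation below
  have hlo₁ : ∀ i, i < a → ∀ M, IsZero (CohIII.T K₁ i M) := fun i hi M => by
    obtain ⟨e⟩ := hT₁ i
    exact IsZero.of_iso (hlo i hi M) (e.app M)
  have hGE : K₁.IsGE a := (CochainComplex.isGE_iff _ _).2 fun i hi => by
    rw [HomologicalComplex.exactAt_iff_isZero_homology]
    obtain ⟨e⟩ := nonempty_tUnit K₁ i
    exact IsZero.of_iso (hlo₁ i hi _) e.symm
  let L := CochainComplex.truncGE K₁ a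
  haveI : QuasiIso (K₁.πTruncGE a) := (CochainComplex.quasiIso_πTruncGE_iff K₁ a).2 hGE
  have hb : ∀ i, b < i → IsZero (L.X i) := fun i hi => by
    have h0 : IsZero (K₁.X i) := K₁.isZero_of_isStrictlyLE b i hi
    haveI : Epi ((K₁.πTruncGE a).f i) := by unfold CochainComplex.πTruncGE; infer_instance
    exact IsZero.of_epi ((K₁.πTruncGE a).f i) h0
  have hLX : ∀ i, Module.Finite A (L.X i) ∧ Module.Projective A (L.X i) := fun i => by
    rcases lt_trichotomy a i with hi | rfl | hi
    · have e := (CochainComplex.truncGEXIso K₁ a i hi).symm.toLinearEquiv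
      haveI := (hK₁ i).1
      haveI := (hK₁ i).2
      exact ⟨Module.Finite.equiv e, Module.Projective.of_equiv e⟩
    · obtain ⟨h1, h2⟩ := finite_projective_opcycles K₁ (fun i => (hK₁ i).1) (fun i => (hK₁ i).2) a
        (hlo₁ (a - 1) (by lia))
      have e := (CochainComplex.truncGEXIsoOpcycles K₁ a).symm.toLinearEquiv
      exact ⟨Module.Finite.equiv e, Module.Projective.of_equiv e⟩
    · exact hzero (L.isZero_of_isStrictlyGE a i hi)
  refine ⟨L, hLX, fun i hi => hi.elim (fun h => L.isZero_of_isStrictlyGE a i h) (hb i), fun p => ?_⟩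
  haveI : L.IsStrictlyLE b := (CochainComplex.isStrictlyLE_iff _ _).2 fun i hi => hb i hi
  haveI : ∀ i, Projective (L.X i) := fun i => (IsProjective.iff_projective _).1 (hLX i).2
  obtain ⟨e⟩ := nonempty_tfun_iso K₁ (K₁.πTruncGE a) b b p
  obtain ⟨e'⟩ := hT₁ p
  exact ⟨e.symm ≪≫ e'⟩

end Groth.Agent.AmpTrunc
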